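import Cfsg.Agent.Lib.BrauerTuan.Minus.Proj
import Mathlib.GroupTheory.Sylow
import Mathlib.GroupTheory.Nilpotent

/-!
# An involution with a large eigenspace

A rational representation of degree `2 ^ (c + 1) + 1` and an element `y` of order `2 ^ (c + 1)`
whose involution `u` has a small eigenspace: if `u` is not central in a Sylow subgroup then a
central involution of that subgroup has an eigenspace of codimension one.
-/

set_option autoImplicit false

open Module

namespace CfsgLib.BrauerTuan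

universe u v

variable {G : Type u} [Group G] [Finite G] {V : Type v} [AddCommGroup V] [Module ℂ V]
  [FiniteDimensional ℂ V] (ρ : Representation ℂ G V)

/-- A central involution of a nontrivial `2`-group. -/
theorem exists_central_involution (S : Sylow 2 G) {y : G} (hy : y ∈ (S : Subgroup G)) (hy1 : y ≠ 1) :
    ∃ v ∈ (S : Subgroup G), orderOf v = 2 ∧ ∀ x ∈ (S : Subgroup G), Commute x v := by
  haveI : Fact (Nat.Prime 2) := ⟨Nat.prime_two⟩
  haveI : Nontrivial ↥(S : Subgroup G) :=
    ⟨⟨⟨y, hy⟩, 1, fun h => hy1 (congrArg Subtype.val h)⟩⟩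
  haveI : Nontrivial (Subgroup.center ↥(S : Subgroup G)) := S.2.center_nontrivial
  obtain ⟨j, hj⟩ := (S.2.to_subgroup (Subgroup.center ↥(S : Subgroup G))).exists_card_eq
  have h2 : 2 ∣ Nat.card (Subgroup.center ↥(S : Subgroup G)) := by
    rcases Nat.eq_zero_or_pos j with h0 | h0
    · rw [h0, pow_zero, Nat.card_eq_one_iff_unique] at hj
      haveI := hj.1
      exact absurd ‹Nontrivial (Subgroup.center ↥(S : Subgroup G))› (not_nontrivial _)
    · exact hj ▸ dvd_pow_self 2 h0.ne'
  obtain ⟨v, hv⟩ := exists_prime_orderOf_dvd_card' (G := Subgroup.center ↥(S : Subgroup G)) 2 h2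
  refine ⟨((v : (S : Subgroup G)) : G), (v : (S : Subgroup G)).2, ?_, fun x hx => ?_⟩
  · rw [Subgroup.orderOf_coe, Subgroup.orderOf_coe, hv]
  · exact congrArg Subtype.val (Subgroup.mem_center_iff.1 v.2 ⟨x, hx⟩)

theorem exists_large_negProj {c : ℕ} (hc : 1 ≤ c) (hdim : finrank ℂ V = 2 ^ (c + 1) + 1)
    (hfaith : ∀ g, ρ g = 1 → g = 1) (hdet : ∀ g, LinearMap.det (ρ g) = 1) {y : G}
    (hy : orderOf y = 2 ^ (c + 1))
    (hrat : ∀ g : G, (∃ k : ℕ, orderOf g = 2 ^ k) → ∃ r : ℚ, ρ.character g = (r : ℂ))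
    (hu : ρ.character (y ^ 2 ^ c) = 1 ∨ ρ.character (y ^ 2 ^ c) = -1)
    (S : Sylow 2 G) (hyS : y ∈ (S : Subgroup G))
    (hnc : ∃ x ∈ (S : Subgroup G), ¬ Commute x (y ^ 2 ^ c)) :
    ∃ v : G, orderOf v = 2 ∧ 2 ^ (c + 1) ≤ finrank ℂ (LinearMap.range (negProj ρ v)) := by
  haveI : Fact (Nat.Prime 2) := ⟨Nat.prime_two⟩
  set u := y ^ 2 ^ c with hudef
  have hu2 : u * u = 1 := by
    rw [hudef, ← pow_add, show 2 ^ c + 2 ^ c = 2 ^ (c + 1) by ring, ← hy, pow_orderOf_eq_one]
  have huS : u ∈ (S : Subgroup G) := pow_mem hyS _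
  have hy1 : y ≠ 1 := fun h => by
    rw [h, orderOf_one] at hy
    have := Nat.one_lt_two_pow (show c + 1 ≠ 0 by omega)
    omega
  have hyp : y ^ 2 ^ (c + 1) = 1 := hy ▸ pow_orderOf_eq_one y
  -- rational traces
  have htwo : ∀ g ∈ (S : Subgroup G), ∃ k : ℕ, orderOf g = 2 ^ k := fun g hg => by
    obtain ⟨k, hk⟩ := IsPGroup.iff_orderOf.1 S.2 ⟨g, hg⟩
    exact ⟨k, by rw [← hk, Subgroup.orderOf_mk]⟩
  have htr : ∀ g ∈ (S : Subgroup G), ∀ g' ∈ (S : Subgroup G), ∀ a : ℕ,
      ∃ r : ℚ, LinearMap.trace ℂ V (ρ (y ^ a) * (negProj ρ g * negProj ρ g')) = (r : ℂ) := by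
    intro g hg g' hg' a
    have hya := pow_mem hyS a
    obtain ⟨r1, h1⟩ := hrat _ (htwo _ hya)
    obtain ⟨r2, h2⟩ := hrat _ (htwo _ (mul_mem hya hg))
    obtain ⟨r3, h3⟩ := hrat _ (htwo _ (mul_mem hya hg'))
    obtain ⟨r4, h4⟩ := hrat _ (htwo _ (mul_mem hya (mul_mem hg hg')))
    refine ⟨(r1 - r2 - r3 + r4) / 4, ?_⟩
    push_cast
    rw [← h1, ← h2, ← h3, ← h4]
    simp only [negProj, Representation.character, map_mul, smul_mul_assoc, mul_smul_comm, map_smul,
      sub_mul, mul_sub, one_mul, mul_one, map_sub, smul_eq_mul]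
    ring
  have hinv2 : ∀ {g : G}, orderOf g = 2 → g * g = 1 := fun hg => by
    rw [← sq, ← hg, pow_orderOf_eq_one]
  -- the eigenspace of `u`
  obtain ⟨k, hk⟩ : ∃ k, finrank ℂ (LinearMap.range (negProj ρ u)) = k := ⟨_, rfl⟩
  have hk2 : k = 2 ^ c := by
    have h1 := exists_nat_trace (negProj_idem ρ hu2)
    rw [trace_negProj, hk, hdim] at h1
    have hev : Even k := hk ▸ even_finrank_negProj ρ hdet hu2
    have h2c : Even (2 ^ c) := (Nat.even_pow' (by omega)).2 even_two
    rcases hu with h | h <;> rw [h] at h1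
    · refine Nat.cast_injective (R := ℂ) ?_
      rw [← h1, pow_succ]
      push_cast
      ring
    · exfalso
      have h3 : k = 2 ^ c + 1 := Nat.cast_injective (R := ℂ) (by
        rw [← h1, pow_succ]
        push_cast
        ring)
      rw [h3, Nat.even_add_one] at hev
      exact hev h2c
  have hkey : ∀ {g g' : G}, g * g = 1 → g' * g' = 1 → Commute g g' →
      IsIdempotentElem (negProj ρ g * negProj ρ g') := fun hg hg' hgg =>
    IsIdempotentElem.mul_of_commute (((Commute.one_left _).sub_left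
      ((Commute.one_right _).sub_right (hgg.map ρ))).smul_left _ |>.smul_right _)
      (negProj_idem ρ hg) (negProj_idem ρ hg')
  have hdich : ∀ g ∈ (S : Subgroup G), g * g = 1 → Commute y g →
      negProj ρ u * negProj ρ g = 0 ∨
        2 ^ c ≤ finrank ℂ (LinearMap.range (negProj ρ u * negProj ρ g)) := by
    intro g hg hgg hyg
    refine zero_or_two_pow_le ρ hyp (hkey hu2 hgg (hyg.pow_left _)) ?_ ?_ (htr u huS g hg)
    · exact (commute_negProj ρ (Commute.self_pow y _)).mul_right (commute_negProj ρ hyg)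
    · rw [← mul_assoc, ← hudef, rho_mul_negProj ρ hu2, neg_mul]
  have hfull : ∀ g ∈ (S : Subgroup G), g * g = 1 → Commute y g →
      negProj ρ u * negProj ρ g = 0 ∨ negProj ρ u * negProj ρ g = negProj ρ u := by
    intro g hg hgg hyg
    refine (hdich g hg hgg hyg).imp_right fun hle => ?_
    have hug : Commute u g := hyg.pow_left _
    have hP := hkey hu2 hgg hug
    have hQ : IsIdempotentElem (negProj ρ u * (1 - negProj ρ g)) :=
      IsIdempotentElem.mul_of_commute ((Commute.one_right _).sub_right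
        (((Commute.one_left _).sub_left
          ((Commute.one_right _).sub_right (hug.map ρ))).smul_left _ |>.smul_right _))
        (negProj_idem ρ hu2) (negProj_idem ρ hgg).one_sub
    have h1 := congrArg (LinearMap.trace ℂ V) (mul_sub (negProj ρ u) 1 (negProj ρ g))
    rw [map_sub, mul_one, exists_nat_trace hQ, exists_nat_trace (negProj_idem ρ hu2),
      exists_nat_trace hP, eq_sub_iff_add_eq, ← Nat.cast_add, Nat.cast_inj, hk, hk2] at h1
    have h2 : finrank ℂ (LinearMap.range (negProj ρ u * (1 - negProj ρ g))) = 0 := by omega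
    have h3 := eq_zero_of_trace_eq_zero hQ (by rw [exists_nat_trace hQ, h2, Nat.cast_zero])
    rw [mul_sub, mul_one, sub_eq_zero] at h3
    exact h3.symm
  -- a conjugate of `u` commuting with `y`
  obtain ⟨s, hsS, hsu, hys⟩ : ∃ s ∈ (S : Subgroup G), s * u * s⁻¹ ≠ u ∧
      Commute y (s * u * s⁻¹) := by
    haveI : Group.IsNilpotent ↥(S : Subgroup G) := S.2.isNilpotent
    set u' : (S : Subgroup G) := ⟨u, huS⟩
    set H := Subgroup.centralizer ({u'} : Set (S : Subgroup G))
    have hH : H < ⊤ := by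
      refine lt_top_iff_ne_top.2 fun h => ?_
      obtain ⟨x, hx, hxu⟩ := hnc
      have h1 : (⟨x, hx⟩ : (S : Subgroup G)) ∈ H := h ▸ Subgroup.mem_top _
      exact hxu (congrArg Subtype.val (Subgroup.mem_centralizer_singleton_iff.1 h1))
    obtain ⟨s, hsN, hsH⟩ := SetLike.exists_of_lt (Group.normalizerCondition_of_isNilpotent H hH)
    have hyH : (⟨y, hyS⟩ : (S : Subgroup G)) ∈ H :=
      Subgroup.mem_centralizer_singleton_iff.2 (Subtype.ext (Commute.self_pow y _).eq)
    refine ⟨(s : G), s.2, fun h => hsH ?_, ?_⟩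
    · refine Subgroup.mem_centralizer_singleton_iff.2 (Subtype.ext ?_)
      show (s : G) * u = u * s
      calc (s : G) * u = (s : G) * u * (s : G)⁻¹ * s := by group
        _ = u * s := by rw [h]
    · have h1 := (Subgroup.mem_normalizer_iff.1 (inv_mem hsN) _).1 hyH
      rw [inv_inv] at h1
      have h2 := congrArg Subtype.val (Subgroup.mem_centralizer_singleton_iff.1 h1)
      have h3 : (s : G)⁻¹ * y * s * u = u * ((s : G)⁻¹ * y * s) := h2
      show y * (_ * _ * _) = _
      calc y * ((s : G) * u * (s : G)⁻¹) = (s : G) * ((s : G)⁻¹ * y * s * u) * (s : G)⁻¹ := by group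
        _ = (s : G) * u * (s : G)⁻¹ * y := by rw [h3]; group
  set u₁ := s * u * s⁻¹ with hu₁
  have hu₁S : u₁ ∈ (S : Subgroup G) := mul_mem (mul_mem hsS huS) (inv_mem hsS)
  have hu₁2 : u₁ * u₁ = 1 := by
    rw [hu₁, show s * u * s⁻¹ * (s * u * s⁻¹) = s * (u * u) * s⁻¹ by group, hu2, mul_one,
      mul_inv_cancel]
  have huu₁ : Commute u u₁ := hys.pow_left _
  have hPc : Commute (negProj ρ u) (negProj ρ u₁) :=
    ((Commute.one_left _).sub_left
      ((Commute.one_right _).sub_right (huu₁.map ρ))).smul_left _ |>.smul_right _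
  have hdisj : negProj ρ u * negProj ρ u₁ = 0 := by
    refine (hfull u₁ hu₁S hu₁2 hys).resolve_right fun h => ?_
    have hQ : IsIdempotentElem (negProj ρ u₁ * (1 - negProj ρ u)) :=
      IsIdempotentElem.mul_of_commute ((Commute.one_right _).sub_right hPc.symm)
        (negProj_idem ρ hu₁2) (negProj_idem ρ hu2).one_sub
    have h1 : LinearMap.trace ℂ V (negProj ρ u₁) = LinearMap.trace ℂ V (negProj ρ u) := by
      rw [trace_negProj, trace_negProj, hu₁, Representation.char_conj]
    have h3 := eq_zero_of_trace_eq_zero hQ (by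
      rw [mul_sub, mul_one, map_sub, h1, ← hPc.eq, h, sub_self])
    rw [mul_sub, mul_one, ← hPc.eq, h, sub_eq_zero] at h3
    have h4 : ρ u₁ = ρ u := by
      have h5 := congrArg (fun A => (2 : ℂ) • A) h3
      simp only [negProj, smul_smul, mul_inv_cancel₀ (two_ne_zero (α := ℂ)), one_smul] at h5
      exact sub_right_injective h5
    exact hsu (inv_mul_eq_one.1 (hfaith (u₁⁻¹ * u)
      (by rw [map_mul, ← h4, ← map_mul, inv_mul_cancel, map_one])))
  obtain ⟨v, hvS, hv, hvc⟩ := exists_central_involution S hyS hy1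
  have hv2 := hinv2 hv
  refine ⟨v, hv, ?_⟩
  -- the sum of the two projections
  set Q := negProj ρ u + negProj ρ u₁ with hQdef
  have hQ : IsIdempotentElem Q := by
    show Q * Q = Q
    rw [hQdef, add_mul, mul_add, mul_add, hdisj, ← hPc.eq, hdisj, (negProj_idem ρ hu2).eq,
      (negProj_idem ρ hu₁2).eq, add_zero, zero_add]
  have hQtr : LinearMap.trace ℂ V Q = ((2 ^ (c + 1) : ℕ) : ℂ) := by
    rw [hQdef, map_add, trace_negProj, trace_negProj, hu₁, Representation.char_conj,
      ← trace_negProj, exists_nat_trace (negProj_idem ρ hu2), hk, hk2, pow_succ]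
    push_cast
    ring
  have hPv := negProj_idem ρ hv2
  have hconj : ∀ A : Module.End ℂ V, negProj ρ u * negProj ρ v = A * negProj ρ u →
      (∀ g, Commute (ρ g) A) → negProj ρ u₁ * negProj ρ v = A * negProj ρ u₁ := by
    intro A hA hAc
    have hsv : ρ s * negProj ρ v * ρ s⁻¹ = negProj ρ v := by
      rw [conj_negProj, (hvc s hsS).eq, mul_inv_cancel_right]
    have h1 : ρ s⁻¹ * ρ s = 1 := by rw [← map_mul, inv_mul_cancel, map_one]
    rw [hu₁, ← conj_negProj]
    conv_lhs => rw [← hsv]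
    calc ρ s * negProj ρ u * ρ s⁻¹ * (ρ s * negProj ρ v * ρ s⁻¹)
        = ρ s * negProj ρ u * (ρ s⁻¹ * ρ s) * negProj ρ v * ρ s⁻¹ := by simp only [mul_assoc]
      _ = ρ s * (negProj ρ u * negProj ρ v) * ρ s⁻¹ := by
          rw [h1, mul_one]; simp only [mul_assoc]
      _ = A * (ρ s * negProj ρ u * ρ s⁻¹) := by
          rw [hA, ← mul_assoc (ρ s), (hAc s).eq]; simp only [mul_assoc]
  have hvu : Commute u v := hvc u huS
  have hPvu : ∀ {g}, g ∈ (S : Subgroup G) → Commute (negProj ρ g) (negProj ρ v) := fun hg =>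
    ((Commute.one_left _).sub_left
      ((Commute.one_right _).sub_right ((hvc _ hg).map ρ))).smul_left _ |>.smul_right _
  rcases hfull v hvS hv2 (hvc y hyS) with h0 | h1
  · -- `v` would act trivially
    exfalso
    have h0' : negProj ρ u₁ * negProj ρ v = 0 := by
      rw [hconj 0 (by rw [h0, zero_mul]) (fun g => Commute.zero_right _), zero_mul]
    have hQv : Q * negProj ρ v = 0 := by rw [hQdef, add_mul, h0, h0', add_zero]
    have hQv' : negProj ρ v * Q = 0 := by
      rw [hQdef, mul_add, ← (hPvu huS).eq, ← (hPvu hu₁S).eq, h0, h0', add_zero]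
    have hR : IsIdempotentElem (1 - Q - negProj ρ v) := by
      show (1 - Q - negProj ρ v) * (1 - Q - negProj ρ v) = 1 - Q - negProj ρ v
      simp only [sub_mul, mul_sub, one_mul, mul_one, hQ.eq, hPv.eq, hQv, hQv']
      abel
    have h1 := exists_nat_trace hR
    rw [map_sub, map_sub, Module.End.one_eq_id, LinearMap.trace_id, hdim, hQtr,
      exists_nat_trace hPv] at h1
    have hle : finrank ℂ (LinearMap.range (negProj ρ v)) ≤ 1 := by
      have h2 : finrank ℂ (LinearMap.range (1 - Q - negProj ρ v)) +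
          finrank ℂ (LinearMap.range (negProj ρ v)) = 1 := Nat.cast_injective (R := ℂ) (by
        push_cast at h1 ⊢
        linear_combination -h1)
      omega
    have hev := even_finrank_negProj ρ hdet hv2
    have hz : finrank ℂ (LinearMap.range (negProj ρ v)) = 0 := by
      rcases hev with ⟨a, ha⟩; omega
    have h3 := eq_zero_of_trace_eq_zero hPv (by rw [exists_nat_trace hPv, hz, Nat.cast_zero])
    rw [negProj, smul_eq_zero, sub_eq_zero] at h3
    have h4 := hfaith v (h3.resolve_left (inv_ne_zero two_ne_zero)).symm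
    rw [h4, orderOf_one] at hv
    norm_num at hv
  · have h1' : negProj ρ u₁ * negProj ρ v = negProj ρ u₁ := by
      rw [hconj 1 (by rw [h1, one_mul]) (fun g => Commute.one_right _), one_mul]
    have hQv : Q * negProj ρ v = Q := by rw [hQdef, add_mul, h1, h1']
    have hQv' : negProj ρ v * Q = Q := by
      rw [hQdef, mul_add, ← (hPvu huS).eq, ← (hPvu hu₁S).eq, h1, h1']
    have hR : IsIdempotentElem (negProj ρ v - Q) := by
      show (negProj ρ v - Q) * (negProj ρ v - Q) = negProj ρ v - Q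
      simp only [sub_mul, mul_sub, hQ.eq, hPv.eq, hQv, hQv']
      abel
    have h2 := exists_nat_trace hR
    rw [map_sub, exists_nat_trace hPv, hQtr, sub_eq_iff_eq_add, ← Nat.cast_add, Nat.cast_inj] at h2
    omega

end CfsgLib.BrauerTuan
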