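import Cfsg.Agent.Lib.BrauerTuan.Minus.Rational

/-!
# The equation of an involution with centralizer of odd index
-/

set_option autoImplicit false

namespace CfsgLib.BrauerTuan

open Cfsg CfsgLib.DefectOne CfsgLib.BrauerRey
open scoped ComplexConjugate Classical

universe u

variable {G : Type u} [Group G] [Finite G] {p q b g₀ : ℕ} [Fact p.Prime] {z y : G} {e t n : ℕ}
  {X Y : Finset (IrrCharacter G)} {σ : IrrCharacter G → ℤ} {δ : ℤ} {f₀ : ℕ}

namespace Tuan

variable (T : Tuan p q b g₀ z y e t n X Y σ δ f₀)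

include T

theorem card_two (hδ : δ = -1) : Nat.card G = p * (2 ^ b * f₀) := by
  obtain ⟨hq2, hg, -, -, -, -, -, -⟩ := T.minus_facts hδ
  rw [T.card_G, hq2, hg, mul_assoc]

/-- The form of an involution `v` with a centralizer of order `2 ^ b * m`. -/
theorem involution_form (hδ : δ = -1) {v : G} (hv : orderOf v = 2) {m : ℕ}
    (hC : Nat.card (Subgroup.centralizer ({v} : Set G)) = 2 ^ b * m) :
    ∃ (x w : IrrCharacter G → ℤ) (k : ℤ),
      (∀ χ : IrrCharacter G, (χ : G → ℂ) v = (x χ : ℂ)) ∧ (∀ θ ∈ Y, x θ = k) ∧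
      (∀ χ ∈ X, w χ * (deg χ : ℤ) = (f₀ : ℤ) * x χ) ∧
      (Nat.card (Pairs v z) : ℤ) * (2 ^ b * (m : ℤ) ^ 2) =
        (p : ℤ) * ((∑ χ ∈ X, σ χ * (w χ * x χ)) + k ^ 2) := by
  have hp := T.num.ctx.prime
  have hG := T.card_two hδ
  have hv2 : v ^ 2 = 1 := hv ▸ pow_orderOf_eq_one v
  have hvp : ¬ p ∣ orderOf v := fun hd => by
    rw [hv] at hd
    have := Nat.le_of_dvd two_pos hd
    have := T.num.p_odd
    omega
  choose x hx using fun χ : IrrCharacter G =>
    exists_int_involution (CfsgLib.Char.IsIrrCharacter.isCharacter χ.2) hv2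
  set C := Nat.card (Subgroup.centralizer ({v} : Set G)) with hCdef
  have hC0 : 0 < C := Nat.card_pos
  have hm0 : 0 < m := by
    rcases Nat.eq_zero_or_pos m with h | h
    · rw [h, mul_zero] at hC; omega
    · exact h
  have hidx : (Subgroup.centralizer ({v} : Set G)).index * m = p * f₀ := by
    have h1 := Subgroup.card_mul_index (Subgroup.centralizer ({v} : Set G))
    rw [← hCdef, hC, hG] at h1
    refine Nat.eq_of_mul_eq_mul_left (pow_pos two_pos b) ?_
    linear_combination h1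
  have hdvd : ∀ χ ∈ X, (deg χ : ℤ) ∣ (f₀ : ℤ) * x χ := by
    intro χ hχ
    obtain ⟨N, ρ, hρ, hχρ⟩ := χ.2
    haveI := hρ
    have h1 := CfsgLib.Char.isIntegral_index_mul_char_div ρ v
    have hNd : (N : ℂ) = (deg χ : ℂ) := by
      rw [deg_cast, ← hχρ, Representation.char_one, Module.finrank_fin_fun]
    rw [hχρ, hx χ, Module.finrank_fin_fun, hNd] at h1
    obtain ⟨r, hr⟩ := CfsgLib.Char.exists_int_of_isIntegral_ratCast
      (q := ((((Subgroup.centralizer ({v} : Set G)).index : ℤ) * x χ : ℤ) : ℚ) / ((deg χ : ℤ) : ℚ))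
      (by push_cast; exact h1)
    have hd0 : ((deg χ : ℤ) : ℚ) ≠ 0 := by exact_mod_cast (deg_pos χ).ne'
    rw [eq_div_iff hd0] at hr
    have h2 : (deg χ : ℤ) ∣ ((Subgroup.centralizer ({v} : Set G)).index : ℤ) * x χ :=
      ⟨r, by rw [mul_comm (deg χ : ℤ)]; exact_mod_cast hr.symm⟩
    have h3 : (deg χ : ℤ) ∣ (p : ℤ) * ((f₀ : ℤ) * x χ) := by
      refine (h2.mul_left (m : ℤ)).trans (dvd_of_eq ?_)
      rw [← mul_assoc (p : ℤ), ← Nat.cast_mul p, ← hidx]
      push_cast
      ring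
    refine IsCoprime.dvd_of_dvd_mul_left ?_ h3
    exact Int.isCoprime_iff_gcd_eq_one.2 (by
      rw [Int.gcd_natCast_natCast]
      exact (hp.coprime_iff_not_dvd.2 (T.blk.not_dvd χ (Finset.mem_union_left _ hχ))).symm)
  choose! w hw using hdvd
  obtain ⟨θ, hθ, hθd, -⟩ := T.exists_theta
  have hY : ∀ θ' ∈ Y, x θ' = x θ := fun θ' hθ' => Int.cast_injective (α := ℂ) (by
    rw [← hx, ← hx]; exact T.blk.eq_Y θ' hθ' θ hθ v hvp)
  refine ⟨x, w, x θ, hx, hY, fun χ hχ => by rw [hw χ hχ]; ring, ?_⟩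
  have hf := card_pairs_formula v z
  rw [sum_conj_z_blk T.num T.blk (fun χ => (χ : G → ℂ) v * (χ : G → ℂ) v / (χ : G → ℂ) 1)
    ((x θ : ℂ) * (x θ : ℂ) / (f₀ : ℂ)) (fun θ' hθ' => by
      rw [hx, hY θ' hθ', ← deg_cast, T.blk.deg_Y θ' hθ'])] at hf
  have hf0 : (f₀ : ℂ) ≠ 0 := Nat.cast_ne_zero.2 (by have := T.one_lt; omega)
  have hterm : ∀ χ ∈ X, (σ χ : ℂ) * ((χ : G → ℂ) v * (χ : G → ℂ) v / (χ : G → ℂ) 1) =
      ((σ χ * (w χ * x χ) : ℤ) : ℂ) / (f₀ : ℂ) := by
    intro χ hχ
    have h1 : (deg χ : ℂ) ≠ 0 := Nat.cast_ne_zero.2 (deg_pos χ).ne'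
    have h2 : ((w χ : ℂ)) * (deg χ : ℂ) = (f₀ : ℂ) * (x χ : ℂ) := by
      have := congrArg (Int.cast : ℤ → ℂ) (hw χ hχ)
      push_cast at this
      linear_combination -this
    rw [hx, ← deg_cast]
    push_cast
    field_simp
    linear_combination -(σ χ : ℂ) * (x χ : ℂ) * h2
  rw [Finset.sum_congr rfl hterm, ← Finset.sum_div, ← Int.cast_sum, hδ] at hf
  rw [← hCdef, hC, hG] at hf
  refine Int.cast_injective (α := ℂ) ?_
  push_cast at hf ⊢
  field_simp at hf
  simp only [mul_assoc] at hf ⊢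
  linear_combination hf

/-- An involution with centralizer of odd index forces two exceptional characters. -/
theorem t_eq_two (hδ : δ = -1) (he4 : 4 ≤ e) {v : G} (hv : orderOf v = 2) {m : ℕ}
    (hC : Nat.card (Subgroup.centralizer ({v} : Set G)) = 2 ^ b * m) :
    t = 2 ∧ 2 * f₀ = p + 1 := by
  have hp := T.num.ctx.prime
  obtain ⟨hq2, hg, hfe, hodd, h2e, c, hc, hc1⟩ := T.minus_facts hδ
  obtain ⟨x, w, k, hx, hY, hw, heq⟩ := T.involution_form hδ hv hC
  obtain ⟨θ, hθ, hθd, -⟩ := T.exists_theta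
  have hc2 : 2 ≤ c := by
    rcases Nat.lt_or_ge c 2 with h | h
    · have : c = 1 := by omega
      rw [this] at hc
      omega
    · exact h
  have h4e : 4 ∣ e := hc ▸ (show (4 : ℕ) = 2 ^ 2 by norm_num) ▸ Nat.pow_dvd_pow 2 hc2
  have hb2 : 4 ∣ 2 ^ b := by
    have h1 : e ∣ 2 ^ b * f₀ := by
      have := T.card_M
      rw [hq2, hg] at this
      exact ⟨_, this.symm⟩
    exact h4e.trans ((show Nat.Coprime e f₀ by
      rw [hc]; exact Nat.Coprime.pow_left c (Nat.coprime_two_left.2 hodd)).dvd_of_dvd_mul_right h1)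
  have hTdvd : (4 : ℤ) ∣ (∑ χ ∈ X, σ χ * (w χ * x χ)) + k ^ 2 := by
    have h1 : (4 : ℤ) ∣ (Nat.card (Pairs v z) : ℤ) * (2 ^ b * (m : ℤ) ^ 2) :=
      dvd_mul_of_dvd_right (dvd_mul_of_dvd_left (by exact_mod_cast hb2) _) _
    rw [heq] at h1
    refine IsCoprime.dvd_of_dvd_mul_left ?_ h1
    exact Int.isCoprime_iff_gcd_eq_one.2 (by
      rw [show (4 : ℤ) = ((4 : ℕ) : ℤ) by rfl, Int.gcd_natCast_natCast]
      exact (Nat.Coprime.pow_left 2 (Nat.coprime_two_left.2 (hp.odd_of_ne_two (by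
        have := T.num.p_odd; omega))) : Nat.Coprime (2 ^ 2) p))
  have hk : Odd k := by
    obtain ⟨N, ρ, hρ, hχρ⟩ := θ.2
    obtain ⟨s, hcard, hsum, -, hroot⟩ := CfsgLib.Char.exists_eigen_multiset ρ v
    have hpar : ∀ (s : Multiset ℂ) (k : ℤ), (∀ a ∈ s, a = 1 ∨ a = -1) → s.sum = (k : ℂ) →
        (Odd k ↔ Odd (Multiset.card s)) := by
      intro s
      induction s using Multiset.induction with
      | empty =>
        intro k _ hk
        rw [Multiset.sum_zero, eq_comm, Int.cast_eq_zero] at hk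
        simp [hk]
      | cons a s ih =>
        intro k ha hk
        rw [Multiset.sum_cons] at hk
        rw [Multiset.card_cons]
        rcases ha a (Multiset.mem_cons_self _ _) with rfl | rfl
        · have := ih (k - 1) (fun a ha' => ha a (Multiset.mem_cons_of_mem ha'))
            (by push_cast; linear_combination hk)
          rw [Nat.odd_add_one, ← this, Int.odd_sub]
          simp
        · have := ih (k + 1) (fun a ha' => ha a (Multiset.mem_cons_of_mem ha'))
            (by push_cast; linear_combination hk)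
          rw [Nat.odd_add_one, ← this, Int.odd_add]
          simp
    have hN : N = f₀ := Nat.cast_injective (R := ℂ) (by
      rw [← hθd, deg_cast, ← hχρ, Representation.char_one, Module.finrank_fin_fun])
    refine (hpar s k (fun a ha => ?_) ?_).2 ?_
    · have := hroot a ha
      rw [hv] at this
      exact sq_eq_one_iff.1 this
    · rw [← hsum, hχρ, hx θ, hY θ hθ]
    · rw [hcard, Module.finrank_fin_fun, hN]
      exact hodd
  have hf4 : (f₀ : ℤ) % 4 = 1 := by
    obtain ⟨a, ha⟩ := h4e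
    have hpe : p = e * t + 1 := T.num.het.symm
    rw [ha, mul_assoc] at hpe
    omega
  have hk4 : k ^ 2 % 4 = 1 := by
    obtain ⟨a, ha⟩ := hk
    rw [ha, show (2 * a + 1) ^ 2 = 4 * (a * a + a) + 1 by ring]
    omega
  -- some character has degree twice an odd number
  have hxp : x CfsgLib.Char.principalIrr = 1 := Int.cast_injective (α := ℂ) (by
    rw [← hx, CfsgLib.Char.principalIrr_apply, Int.cast_one])
  have hwp : w CfsgLib.Char.principalIrr = f₀ := by
    have := hw _ T.principal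
    rw [deg_principal, hxp, Nat.cast_one, mul_one, mul_one] at this
    exact this
  obtain ⟨χ, hχ, hχne, hχ4⟩ : ∃ χ ∈ X, χ ≠ CfsgLib.Char.principalIrr ∧ ¬ 4 ∣ deg χ := by
    by_contra hcon
    push Not at hcon
    rw [← Finset.add_sum_erase _ _ T.principal, σ_principal T.num T.blk T.principal, hxp,
      hwp] at hTdvd
    have h1 : (4 : ℤ) ∣ ∑ χ ∈ X.erase CfsgLib.Char.principalIrr, σ χ * (w χ * x χ) := by
      refine Finset.dvd_sum fun χ hχ => ?_
      obtain ⟨hne, hχX⟩ := Finset.mem_erase.1 hχ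
      have h2 : (4 : ℤ) ∣ (f₀ : ℤ) * x χ :=
        (hw χ hχX) ▸ dvd_mul_of_dvd_right (Int.natCast_dvd_natCast.2 (hcon χ hχX hne)) _
      have h3 : (4 : ℤ) ∣ x χ := by
        refine IsCoprime.dvd_of_dvd_mul_left ?_ h2
        exact Int.isCoprime_iff_gcd_eq_one.2 (by
          rw [show (4 : ℤ) = ((4 : ℕ) : ℤ) by rfl, Int.gcd_natCast_natCast]
          exact (Nat.Coprime.pow_left 2 (Nat.coprime_two_left.2 hodd) : Nat.Coprime (2 ^ 2) f₀))
      exact dvd_mul_of_dvd_right (dvd_mul_of_dvd_right h3 _) _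
    omega
  set D := deg χ with hD
  obtain ⟨d, hd⟩ : 2 ∣ D := hq2 ▸ T.deg_X χ hχ hχne
  have hdodd : Odd d := by
    rcases Nat.even_or_odd d with ⟨a, ha⟩ | h
    · exact absurd ⟨a, by omega⟩ hχ4
    · exact h
  have hdf : d ∣ f₀ := by
    have h1 : D ∣ 2 ^ b * f₀ :=
      ((hp.coprime_iff_not_dvd.2 (T.blk.not_dvd χ (Finset.mem_union_left _ hχ))).symm).dvd_of_dvd_mul_left
        (T.card_two hδ ▸ deg_dvd χ)
    exact ((Nat.coprime_two_left.2 hdodd).pow_left b).symm.dvd_of_dvd_mul_left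
      ((Dvd.intro_left 2 hd.symm).trans h1)
  have hdle := Nat.le_of_dvd (by have := T.one_lt; omega) hdf
  have hd1 : 1 ≤ d := hdodd.pos
  obtain ⟨a, ha⟩ := Int.ModEq.dvd (T.blk.mod_X χ hχ).symm
  rw [← hD] at ha
  have hbound : a = 1 ∨ a = 0 := by
    have h1 : (0 : ℤ) ≤ a ∧ a < 2 := by
      have hs := T.blk.sign χ hχ
      have hp5 : 5 ≤ p := by omega
      constructor
      · by_contra hh
        have := Int.mul_le_mul_of_nonneg_left (show a ≤ -1 by omega) (Int.natCast_nonneg p)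
        rcases hs with hs | hs <;> rw [hs] at ha <;> omega
      · by_contra hh
        have := Int.mul_le_mul_of_nonneg_left (show 2 ≤ a by omega) (Int.natCast_nonneg p)
        rcases hs with hs | hs <;> rw [hs] at ha <;> omega
    omega
  rcases hbound with rfl | rfl
  · rcases T.blk.sign χ hχ with hs | hs <;> rw [hs] at ha
    · -- degree `p + 1`
      obtain ⟨j, hj⟩ := hdf
      have hj1 : j = 1 := by
        rcases Nat.lt_or_ge j 2 with h | h
        · interval_cases j
          · have := T.one_lt; omega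
          · rfl
        · have := Nat.mul_le_mul_left d h
          omega
      rw [hj1, mul_one] at hj
      refine ⟨?_, by omega⟩
      have hpe : p = e * t + 1 := T.num.het.symm
      exact Nat.eq_of_mul_eq_mul_left (show 0 < e by omega) (by omega)
    · exfalso
      obtain ⟨a, ha'⟩ := h4e
      have hpe : p = e * t + 1 := T.num.het.symm
      rw [ha', mul_assoc] at hpe
      obtain ⟨d', hd'⟩ := hdodd
      omega
  · exfalso
    rcases T.blk.sign χ hχ with hs | hs <;> rw [hs] at ha <;> omega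

end Tuan

end CfsgLib.BrauerTuan
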