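import Cfsg.Agent.Lib.BrauerTuan.Minus.Form
import Cfsg.Agent.Lib.BrauerTuan.Minus.Central
import Cfsg.Agent.Lib.BrauerTuan.Counting
import Cfsg.Agent.Lib.BrauerRey.Fix
import Cfsg.Agent.Lib.BrauerRey.Main
import Cfsg.Agent.Lib.Invol.BaerSuzuki

/-!
# Exceptional degree `p - e`, `e ≥ 4`
-/

set_option autoImplicit false

namespace CfsgLib.BrauerTuan

open Cfsg CfsgLib.DefectOne CfsgLib.BrauerRey
open scoped ComplexConjugate Classical
open Module

universe u

variable {G : Type u} [Group G] [Finite G] {p q b g₀ : ℕ} [Fact p.Prime] {z y : G} {e t n : ℕ}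
  {X Y : Finset (IrrCharacter G)} {σ : IrrCharacter G → ℤ} {δ : ℤ} {f₀ : ℕ}

namespace Tuan

variable (T : Tuan p q b g₀ z y e t n X Y σ δ f₀)

include T

theorem theta_sq_one {θ : IrrCharacter G} (hθ : θ ∈ Y) (hδ : δ = -1) {w : G}
    (hw : w ∈ Subgroup.zpowers y) (hw2 : orderOf w = 2) :
    (θ : G → ℂ) w = 1 ∨ (θ : G → ℂ) w = -1 := by
  obtain ⟨L, hL, hLq, hL1⟩ := T.num.exists_fix θ
  have hL1' : L 1 = 1 := by
    rw [T.blk.sum_pow θ hθ, ← deg_cast, T.blk.deg_Y θ hθ, hδ] at hL1
    refine mul_left_cancel₀ (Nat.cast_ne_zero.2 T.num.ctx.prime.ne_zero : (p : ℂ) ≠ 0) ?_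
    rw [hL1, mul_one, ← (T.minus_facts hδ).2.2.1]
    push_cast
    ring
  obtain ⟨f, hf⟩ := CfsgLib.Char.IsCharacter.exists_linear hL hL1'
  set w' : Subgroup.zpowers y := ⟨w, hw⟩
  have hw1 : w' ≠ 1 := fun h => by
    have h1 : w = 1 := congrArg Subtype.val h
    rw [h1, orderOf_one] at hw2
    norm_num at hw2
  have h1 : (f w' : ℂ) ^ 2 = 1 := by
    have hw22 : w' ^ 2 = 1 := Subtype.ext (show w ^ 2 = 1 by rw [← hw2, pow_orderOf_eq_one])
    rw [← Units.val_pow_eq_pow_val, ← map_pow, hw22, map_one, Units.val_one]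
  have h2 : (θ : G → ℂ) w = (f w' : ℂ) := by rw [← hf w', hLq w' hw1]
  rw [h2]
  exact sq_eq_one_iff.1 h1

/-- The involution of the complement is central in a Sylow subgroup. -/
theorem exists_central_in_complement [IsSimpleGroup G] (hna : ¬ IsMulCommutative G) (hδ : δ = -1)
    {c : ℕ} (hc : 1 ≤ c) (he : e = 2 ^ (c + 1)) (ht : t = 2) :
    2 ^ b ∣ Nat.card (Subgroup.centralizer ({y ^ 2 ^ c} : Set G)) := by
  haveI : Fact (Nat.Prime 2) := ⟨Nat.prime_two⟩
  have hp := T.num.ctx.prime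
  have hperf := CfsgLib.SmallPSL.commutator_eq_top hna
  obtain ⟨hq2, hg, hfe, hodd, -, -, -, -⟩ := T.minus_facts hδ
  have hG := T.card_two hδ
  obtain ⟨θ, hθ, hθd, hθne⟩ := T.exists_theta
  obtain ⟨N, ρ, hρ, hχρ⟩ := θ.2
  have hdim : finrank ℂ (Fin N → ℂ) = 2 ^ (c + 1) + 1 := by
    refine Nat.cast_injective (R := ℂ) ?_
    rw [← Representation.char_one (ρ := ρ), hχρ, ← deg_cast, hθd]
    have := T.num.het
    rw [ht, he] at this
    rw [he] at hfe
    congr 1
    omega
  have hfaith : ∀ g : G, ρ g = 1 → g = 1 := fun g hg => eq_one_of_apply θ hθne (by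
    rw [← hχρ]
    show LinearMap.trace ℂ _ (ρ g) = LinearMap.trace ℂ _ (ρ 1)
    rw [hg, map_one ρ])
  have hdet : ∀ g : G, LinearMap.det (ρ g) = 1 := fun g => by
    have h3 := hom_eq_one hperf ((LinearMap.det.comp ρ).toHomUnits) g
    have h4 := congrArg Units.val h3
    rwa [MonoidHom.coe_toHomUnits, Units.val_one] at h4
  have hreg : ∀ g : G, (∃ k : ℕ, orderOf g = 2 ^ k) → ¬ p ∣ orderOf g := fun g ⟨k, hk⟩ hd => by
    rw [hk] at hd
    have := Nat.le_of_dvd two_pos (hp.dvd_of_dvd_pow hd)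
    have := T.num.p_odd
    omega
  have hrat : ∀ g : G, (∃ k : ℕ, orderOf g = 2 ^ k) → ∃ r : ℚ, ρ.character g = (r : ℂ) := by
    intro g hg
    obtain ⟨k, hk⟩ := T.theta_rat hq2 hodd hθ (hreg g hg)
    exact ⟨k, by rw [hχρ, hk, Rat.cast_intCast]⟩
  have hyo : orderOf y = 2 ^ (c + 1) := T.num.orderOf_y.trans he
  have huo : orderOf (y ^ 2 ^ c) = 2 := by
    rw [orderOf_pow_of_dvd (pow_ne_zero _ two_ne_zero) (hyo ▸ pow_dvd_pow 2 c.le_succ), hyo,
      pow_succ, Nat.mul_div_cancel_left _ (pow_pos two_pos c)]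
  have hu : ρ.character (y ^ 2 ^ c) = 1 ∨ ρ.character (y ^ 2 ^ c) = -1 := by
    rw [hχρ]
    exact T.theta_sq_one hθ hδ (Subgroup.npow_mem_zpowers y _) huo
  obtain ⟨S, hyS⟩ := (IsPGroup.of_card (p := 2) (n := c + 1)
    (by rw [Nat.card_zpowers, hyo])).exists_le_sylow (G := G)
  have hyS' : y ∈ (S : Subgroup G) := hyS (Subgroup.mem_zpowers y)
  by_cases hnc : ∃ x ∈ (S : Subgroup G), ¬ Commute x (y ^ 2 ^ c)
  swap
  · push Not at hnc
    exact (S.pow_dvd_card_of_pow_dvd_card (hG ▸ dvd_mul_of_dvd_right (dvd_mul_right _ _) p)).trans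
      (Subgroup.card_dvd_of_le fun x hx =>
        Subgroup.mem_centralizer_singleton_iff.2 (hnc x hx).eq)
  exfalso
  obtain ⟨v, hv, hvle⟩ := exists_large_negProj ρ hc hdim hfaith hdet hyo hrat hu S hyS' hnc
  -- any two conjugates of `v` generate a two-group
  have hpair : ∀ g : G, IsPGroup 2 (Subgroup.closure ({v, g * v * g⁻¹} : Set G)) := by
    intro g
    set v' := g * v * g⁻¹ with hv'
    have hvv : v * v = 1 := by rw [← sq, ← hv, pow_orderOf_eq_one]
    have hv'o : orderOf v' = 2 := by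
      rw [hv', show orderOf (g * v * g⁻¹) = orderOf v from
        orderOf_injective (MulAut.conj g).toMonoidHom (MulAut.conj g).injective _, hv]
    have hv'v' : v' * v' = 1 := by rw [← sq, ← hv'o, pow_orderOf_eq_one]
    set W := LinearMap.range (negProj ρ v) ⊓ LinearMap.range (negProj ρ v') with hW
    have hWle : 2 ^ (c + 1) ≤ finrank ℂ W + 1 := by
      have h1 := Submodule.finrank_sup_add_finrank_inf_eq (LinearMap.range (negProj ρ v))
        (LinearMap.range (negProj ρ v'))
      have h2 := Submodule.finrank_le (LinearMap.range (negProj ρ v) ⊔ LinearMap.range (negProj ρ v'))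
      have h3 : finrank ℂ (LinearMap.range (negProj ρ v')) =
          finrank ℂ (LinearMap.range (negProj ρ v)) := by
        have e1 := exists_nat_trace (negProj_idem ρ hvv)
        rw [trace_negProj, ← Representation.char_conj ρ v g, ← trace_negProj,
          exists_nat_trace (negProj_idem ρ hv'v'), Nat.cast_inj] at e1
        exact e1
      rw [hdim] at h2
      rw [← hW] at h1
      omega
    have hneg : ∀ {a : G}, a * a = 1 → ∀ x ∈ LinearMap.range (negProj ρ a), ρ a x = -x := by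
      rintro a ha _ ⟨x, rfl⟩
      rw [← Module.End.mul_apply, rho_mul_negProj ρ ha]
      rfl
    have hfix : ∀ x ∈ W, ρ (v * v') x = x := fun x hx => by
      rw [map_mul, Module.End.mul_apply, hneg hv'v' x (Submodule.mem_inf.1 hx).2, map_neg,
        hneg hvv x (Submodule.mem_inf.1 hx).1, neg_neg]
    obtain ⟨k, hk⟩ : ∃ k, orderOf (v * v') = 2 ^ k := by
      refine ⟨_, Nat.eq_prime_pow_of_unique_prime_dvd (orderOf_pos _).ne' fun {r} hr hrd => ?_⟩
      by_contra hr2
      set w := (v * v') ^ (orderOf (v * v') / r) with hw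
      have hwo : orderOf w = r := by
        rw [hw, orderOf_pow_of_dvd (Nat.div_ne_zero_iff.2 ⟨hr.ne_zero, Nat.le_of_dvd (orderOf_pos _) hrd⟩)
          (Nat.div_dvd_of_dvd hrd), Nat.div_div_self hrd (orderOf_pos _).ne']
      have hwfix : ∀ a : ℕ, ∀ x ∈ W, ρ (w ^ a) x = x := fun a x hx => by
        rw [hw, ← pow_mul, map_pow, Module.End.coe_pow]
        exact Function.iterate_fixed (hfix x hx) _
      have hr0 : (r : ℂ) ≠ 0 := Nat.cast_ne_zero.2 hr.ne_zero
      set E : Module.End ℂ (Fin N → ℂ) := (r : ℂ)⁻¹ • ∑ a ∈ Finset.range r, ρ (w ^ a) with hE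
      have hshift : ρ w * ∑ a ∈ Finset.range r, ρ (w ^ a) = ∑ a ∈ Finset.range r, ρ (w ^ a) := by
        have e1 := Finset.sum_range_succ' (fun i => ρ (w ^ i)) r
        rw [Finset.sum_range_succ, show w ^ r = 1 from hwo ▸ pow_orderOf_eq_one w, pow_zero] at e1
        refine Eq.trans ?_ (add_right_cancel e1).symm
        simp only [Finset.mul_sum, ← map_mul, ← pow_succ']
      have hidem : IsIdempotentElem E := by
        have hi : ∀ a, ρ (w ^ a) * ∑ a ∈ Finset.range r, ρ (w ^ a) =
            ∑ a ∈ Finset.range r, ρ (w ^ a) := by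
          intro a
          induction a with
          | zero => rw [pow_zero, map_one, one_mul]
          | succ a ih => rw [pow_succ, map_mul, mul_assoc, hshift, ih]
        show E * E = E
        rw [hE, smul_mul_smul_comm, Finset.sum_mul, Finset.sum_congr rfl fun a _ => hi a,
          Finset.sum_const, Finset.card_range, ← Nat.cast_smul_eq_nsmul ℂ, smul_smul, mul_assoc,
          inv_mul_cancel₀ hr0, mul_one]
      have hWE : W ≤ LinearMap.range E := fun x hx => ⟨x, by
        rw [hE, LinearMap.smul_apply, LinearMap.sum_apply,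
          Finset.sum_congr rfl fun a _ => hwfix a x hx, Finset.sum_const, Finset.card_range,
          ← Nat.cast_smul_eq_nsmul ℂ, smul_smul, inv_mul_cancel₀ hr0, one_smul]⟩
      have hEle := Submodule.finrank_mono hWE
      have htr : ((r * finrank ℂ (LinearMap.range E) : ℕ) : ℂ) =
          ∑ a ∈ Finset.range r, (θ : G → ℂ) (w ^ a) := by
        rw [Nat.cast_mul, ← exists_nat_trace hidem, hE, map_smul, map_sum, smul_eq_mul, ← mul_assoc,
          mul_inv_cancel₀ hr0, one_mul, ← hχρ]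
        rfl
      have hrG : r ∣ p * (2 ^ b * f₀) := hG ▸ hwo ▸ orderOf_dvd_natCard w
      have h4c : 4 ≤ 2 ^ (c + 1) :=
        le_of_eq_of_le (show 4 = 2 ^ 2 by norm_num) (Nat.pow_le_pow_right two_pos (by omega))
      rcases hr.dvd_mul.1 hrG with hrp | hrf
      · have hrp' : r = p := (Nat.prime_dvd_prime_iff_eq hr hp).1 hrp
        subst hrp'
        obtain ⟨d, i, hi, hd⟩ := T.num.ctx.exists_pow_of_dvd (g := w) (by rw [hwo])
        have hconj : ∀ a, (θ : G → ℂ) (w ^ a) = (θ : G → ℂ) ((z ^ i) ^ a) := fun a => by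
          rw [← hd, conj_pow]
          exact (CfsgLib.Char.IsIrrCharacter.isClassFunction θ.2 (w ^ a) d).symm
        rw [Finset.sum_congr rfl fun a _ => hconj a] at htr
        have hz : ∑ a ∈ Finset.range r, (θ : G → ℂ) ((z ^ i) ^ a) = (r : ℂ) := by
          haveI := Fintype.ofFinite (Subgroup.zpowers z)
          have h1 := sum_zpowers T.num (fun g => (θ : G → ℂ) g)
          rw [T.blk.sum_pow θ hθ, ← deg_cast, hθd, hδ] at h1
          have hbij : ∑ x : Subgroup.zpowers z, (θ : G → ℂ) x =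
              ∑ a ∈ Finset.range r, (θ : G → ℂ) ((z ^ i) ^ a) := by
            refine (Finset.sum_bij (fun a _ => (⟨(z ^ i) ^ a,
              Subgroup.pow_mem _ (Subgroup.npow_mem_zpowers z i) a⟩ : Subgroup.zpowers z))
              (fun _ _ => Finset.mem_univ _) (fun a ha b hb hab => ?_) (fun x _ => ?_)
              (fun _ _ => rfl)).symm
            · exact pow_injOn_Iio_orderOf (by simpa [T.num.ctx.hyp.orderOf_pow hi] using ha)
                (by simpa [T.num.ctx.hyp.orderOf_pow hi] using hb) (congrArg Subtype.val hab)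
            · have hmem : (x : G) ∈ Subgroup.zpowers (z ^ i) := by
                have heq : Subgroup.zpowers (z ^ i) = Subgroup.zpowers z :=
                  Subgroup.eq_of_le_of_card_ge
                    (Subgroup.zpowers_le.2 (Subgroup.npow_mem_zpowers z i))
                    (by rw [Nat.card_zpowers, Nat.card_zpowers, T.num.ctx.hyp.orderOf_pow hi,
                      T.num.ctx.orderOf_z])
                rw [heq]; exact x.2
              rw [mem_zpowers_iff_mem_range_orderOf] at hmem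
              obtain ⟨a, ha, hax⟩ := Finset.mem_image.1 hmem
              rw [T.num.ctx.hyp.orderOf_pow hi] at ha
              exact ⟨a, ha, Subtype.ext hax⟩
          rw [← hbij, h1, ← hfe]
          push_cast
          ring
        rw [hz, Nat.cast_inj] at htr
        have : finrank ℂ (LinearMap.range E) = 1 :=
          Nat.eq_of_mul_eq_mul_left hp.pos (htr.trans (mul_one r).symm)
        omega
      · have hrf' : r ∣ f₀ := (hr.dvd_mul.1 hrf).resolve_left fun h =>
          hr2 ((Nat.prime_dvd_prime_iff_eq hr Nat.prime_two).1 (hr.dvd_of_dvd_pow h))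
        have hvan : ∀ a ∈ Finset.range r, a ≠ 0 → (θ : G → ℂ) (w ^ a) = 0 := by
          intro a ha ha0
          have hao : r ∣ orderOf (w ^ a) := by
            rw [Nat.Coprime.orderOf_pow (hwo ▸ (hr.coprime_iff_not_dvd.2 fun h => ha0
              (Nat.eq_zero_of_dvd_of_lt h (Finset.mem_range.1 ha)))), hwo]
          have hco : Nat.Coprime r (p * 2 ^ b) := by
            refine Nat.Coprime.mul_right ((Nat.coprime_primes hr hp).2 fun h => ?_)
              (Nat.Coprime.pow_right b ((Nat.coprime_primes hr Nat.prime_two).2 hr2))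
            have h1 : 0 < f₀ := by have := T.one_lt; omega
            have := Nat.le_of_dvd h1 hrf'
            have := T.num.he
            omega
          have hf0 : f₀ ≠ 0 := by have := T.one_lt; omega
          refine vanish hr (m := f₀.factorization r) (hG ▸ (Nat.ordProj_dvd f₀ r).trans
            ((dvd_mul_left f₀ (2 ^ b)).mul_left p)) (fun h => ?_) (hθd.symm ▸ Nat.ordProj_dvd f₀ r)
            hao
          rw [hG, ← mul_assoc] at h
          exact Nat.pow_succ_factorization_not_dvd hf0 hr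
            ((hco.pow_left _).dvd_of_dvd_mul_left h)
        rw [Finset.sum_eq_single_of_mem 0 (Finset.mem_range.2 hr.pos) hvan, pow_zero, ← deg_cast,
          hθd, Nat.cast_inj] at htr
        have hr3 : 3 ≤ r := by have := hr.two_le; omega
        have h5 := Nat.mul_le_mul hr3 (show 2 ^ (c + 1) - 1 ≤ finrank ℂ (LinearMap.range E) by omega)
        have hfd : f₀ = 2 ^ (c + 1) + 1 := by
          rw [← hdim]
          refine Nat.cast_injective (R := ℂ) ?_
          rw [← Representation.char_one (ρ := ρ), hχρ, ← deg_cast, hθd]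
        omega
    exact CfsgLib.Invol.isPGroup_two_closure_pair hv hv'o hk
  obtain ⟨M, hM, hMp, hvM⟩ := CfsgLib.Invol.exists_normal_pGroup_of_pairs v hpair
  rcases hM.eq_bot_or_eq_top with h | h
  · rw [h, Subgroup.mem_bot] at hvM
    rw [hvM, orderOf_one] at hv
    norm_num at hv
  · obtain ⟨j, hj⟩ := hMp.exists_card_eq
    rw [h, Subgroup.card_top, hG] at hj
    have h1 : p ∣ 2 ^ j := hj ▸ dvd_mul_right p _
    have h2 := (Nat.prime_dvd_prime_iff_eq hp Nat.prime_two).1 (hp.dvd_of_dvd_pow h1)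
    have := T.num.p_odd
    omega

/-- The case `e ≥ 4`. -/
theorem minus_case [IsSimpleGroup G] (hna : ¬ IsMulCommutative G) (hδ : δ = -1) (he4 : 4 ≤ e) :
    ∃ m, p = 2 ^ m + 1 ∧ 2 * Nat.card (Sylow p G) < (p + 1) * (p + 2) := by
  haveI : Fact (Nat.Prime 2) := ⟨Nat.prime_two⟩
  cases nonempty_fintype G
  obtain ⟨hq2, hg, hfe, hodd, -, c', hc', -⟩ := T.minus_facts hδ
  have hG := T.card_two hδ
  have hp := T.num.ctx.prime
  obtain ⟨c, rfl⟩ : ∃ c, c' = c + 2 := ⟨c' - 2, by
    rcases Nat.lt_or_ge c' 2 with h | h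
    · interval_cases c' <;> omega
    · omega⟩
  have hcM := T.card_M
  rw [hq2, hg] at hcM
  -- a first involution
  have hb : 1 ≤ b := by
    rcases Nat.eq_zero_or_pos b with h | h
    · rw [h, pow_zero, one_mul] at hcM
      have h2 : 2 ∣ f₀ := hcM ▸ dvd_mul_of_dvd_left (hc' ▸ dvd_pow_self 2 (by omega)) _
      exact absurd h2 (fun h => (Nat.not_even_iff_odd.2 hodd) (even_iff_two_dvd.2 h))
    · exact h
  obtain ⟨Q⟩ : Nonempty (Sylow 2 G) := inferInstance
  haveI : Nontrivial ↥(Q : Subgroup G) := (Subgroup.nontrivial_iff_ne_bot _).2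
    (Q.ne_bot_of_dvd_card (hG ▸ dvd_mul_of_dvd_right
      (dvd_mul_of_dvd_left (dvd_pow_self 2 (by omega)) _) p))
  obtain ⟨⟨x, hxQ⟩, hx1⟩ := exists_ne (1 : (Q : Subgroup G))
  obtain ⟨v, -, hv, hvc⟩ := exists_central_involution Q hxQ fun h => hx1 (Subtype.ext h)
  obtain ⟨m, hm⟩ : 2 ^ b ∣ Nat.card (Subgroup.centralizer ({v} : Set G)) :=
    (Q.pow_dvd_card_of_pow_dvd_card (hG ▸ dvd_mul_of_dvd_right (dvd_mul_right _ _) p)).trans
      (Subgroup.card_dvd_of_le fun a ha => Subgroup.mem_centralizer_singleton_iff.2 (hvc a ha).eq)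
  obtain ⟨ht, hf2⟩ := T.t_eq_two hδ he4 hv hm
  have he : e = 2 ^ ((c + 1) + 1) := hc'
  set u := y ^ 2 ^ (c + 1) with hu
  have hyo : orderOf y = 2 ^ ((c + 1) + 1) := T.num.orderOf_y.trans he
  have huo : orderOf u = 2 := by
    rw [hu, orderOf_pow_of_dvd (pow_ne_zero _ two_ne_zero) (hyo ▸ pow_dvd_pow 2 (by omega)), hyo,
      pow_succ _ (c + 1), Nat.mul_div_cancel_left _ (pow_pos two_pos _)]
  obtain ⟨m, hm⟩ := T.exists_central_in_complement hna hδ (show 1 ≤ c + 1 by omega) he ht
  rw [← hu] at hm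
  obtain ⟨x, w, k, hx, hY, hw, heq⟩ := T.involution_form hδ huo hm
  rw [card_pairs_z T.num (Subgroup.npow_mem_zpowers y _) huo] at heq
  have heq' : (2 : ℤ) ^ b * (m : ℤ) ^ 2 = (∑ χ ∈ X, σ χ * (w χ * x χ)) + k ^ 2 :=
    mul_left_cancel₀ (Int.natCast_ne_zero.2 hp.ne_zero) heq
  -- the column of `u`
  have hcol : ∑ χ : IrrCharacter G, x χ ^ 2 = (2 : ℤ) ^ b * m := by
    refine Int.cast_injective (α := ℂ) ?_
    push_cast
    have h1 := CfsgLib.Char.sum_mul_conj u u
    rw [if_pos (IsConj.refl _), hm] at h1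
    push_cast at h1
    rw [← h1]
    refine Finset.sum_congr rfl fun χ _ => ?_
    rw [hx χ, map_intCast, sq]
  have hxp : x CfsgLib.Char.principalIrr = 1 := Int.cast_injective (α := ℂ) (by
    rw [← hx, CfsgLib.Char.principalIrr_apply, Int.cast_one])
  have hwp : w CfsgLib.Char.principalIrr = f₀ := by
    have := hw _ T.principal
    rw [deg_principal, hxp, Nat.cast_one, mul_one, mul_one] at this
    exact this
  have hsub : ∑ χ ∈ X.erase CfsgLib.Char.principalIrr, x χ ^ 2 + 1 + 2 * k ^ 2 ≤ (2 : ℤ) ^ b * m := by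
    rw [← hcol]
    refine le_trans (le_of_eq ?_) (Finset.sum_le_sum_of_subset_of_nonneg (Finset.subset_univ (X ∪ Y))
      fun χ _ _ => sq_nonneg _)
    have hYs : ∑ θ ∈ Y, x θ ^ 2 = 2 * k ^ 2 := by
      rw [Finset.sum_congr rfl (g := fun _ => k ^ 2) (fun θ hθ => by rw [hY θ hθ]),
        Finset.sum_const, T.blk.card_Y, ht, nsmul_eq_mul]
      norm_num
    rw [Finset.sum_union T.blk.disj, ← Finset.sum_erase_add _ _ T.principal, hxp, hYs, one_pow]
  have hterm : ∀ χ ∈ X.erase CfsgLib.Char.principalIrr,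
      2 * (σ χ * (w χ * x χ)) ≤ x χ ^ 2 := by
    intro χ hχ
    obtain ⟨hne, hχX⟩ := Finset.mem_erase.1 hχ
    have hd0 : (0 : ℤ) < deg χ := by exact_mod_cast deg_pos χ
    have hwx : w χ * x χ * (deg χ : ℤ) = (f₀ : ℤ) * x χ ^ 2 := by
      linear_combination (x χ) * hw χ hχX
    have hnn : 0 ≤ w χ * x χ := by
      by_contra hlt
      have := mul_neg_of_neg_of_pos (not_le.1 hlt) hd0
      have : (0 : ℤ) ≤ (f₀ : ℤ) * x χ ^ 2 := mul_nonneg (Int.natCast_nonneg _) (sq_nonneg _)
      omega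
    rcases T.blk.sign χ hχX with hs | hs <;> rw [hs]
    · have hge : p + 1 ≤ deg χ := by
        obtain ⟨a, ha⟩ := Int.ModEq.dvd (T.blk.mod_X χ hχX).symm
        rw [hs] at ha
        have h2 : deg χ ≠ 1 := fun h => hne (eq_principal_of_deg_eq_one T.num.ctx.perfect h)
        have h3 : 1 ≤ a := by
          by_contra hh
          have := Int.mul_le_mul_of_nonneg_left (show a ≤ 0 by omega) (Int.natCast_nonneg p)
          rw [mul_zero] at this
          have := deg_pos χ
          omega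
        have := Int.mul_le_mul_of_nonneg_left h3 (Int.natCast_nonneg p)
        omega
      refine le_of_mul_le_mul_right ?_ hd0
      rw [one_mul, show 2 * (w χ * x χ) * (deg χ : ℤ) = 2 * (w χ * x χ * (deg χ : ℤ)) by ring, hwx]
      have h4 : (2 : ℤ) * f₀ ≤ deg χ := by omega
      nlinarith [mul_le_mul_of_nonneg_left h4 (sq_nonneg (x χ))]
    · nlinarith [sq_nonneg (x χ)]
  have hbound : 2 ^ b ≤ 2 * f₀ := by
    rw [← Finset.add_sum_erase _ _ T.principal, σ_principal T.num T.blk T.principal, hxp,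
      hwp] at heq'
    have h1 := Finset.sum_le_sum hterm
    rw [← Finset.mul_sum] at h1
    have hm1 : (1 : ℤ) ≤ m := by
      rcases Nat.eq_zero_or_pos m with h | h
      · rw [h, mul_zero] at hm
        exact absurd hm Nat.card_pos.ne'
      · exact_mod_cast h
    have h2 : (0 : ℤ) < 2 ^ b := pow_pos two_pos b
    have h3 : 0 ≤ (2 : ℤ) ^ b * m * (m - 1) :=
      mul_nonneg (mul_nonneg h2.le (by omega)) (by omega)
    have h3' : (2 : ℤ) ^ b ≤ 2 ^ b * m := le_mul_of_one_le_right h2.le hm1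
    have h4 : (2 : ℤ) ^ b ≤ 2 * f₀ := by nlinarith
    exact_mod_cast h4
  refine ⟨(c + 1) + 1 + 1, ?_, ?_⟩
  · have := T.num.het
    rw [ht, he] at this
    rw [pow_succ]
    omega
  · rw [T.num.card_sylow]
    refine Nat.lt_of_mul_lt_mul_left (a := e) ?_
    have h1 : e * (2 * (1 + n * p)) = 2 * (2 ^ b * f₀) := by rw [← hcM]; ring
    have h2 := Nat.mul_le_mul_right f₀ hbound
    have h3 : (2 * f₀) * (2 * f₀) = (p + 1) * (p + 1) := by rw [hf2]
    have h4 : 4 * ((p + 1) * (p + 2)) ≤ e * ((p + 1) * (p + 2)) := Nat.mul_le_mul_right _ he4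
    have h5 : (p + 1) * (p + 2) = (p + 1) * (p + 1) + (p + 1) := by ring
    have h6 : 2 * (2 * f₀ * f₀) = (2 * f₀) * (2 * f₀) := by ring
    omega

end Tuan

end CfsgLib.BrauerTuan
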