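import Cfsg.Agent.Lib.Char.Basic
import Mathlib.LinearAlgebra.Trace
import Mathlib.LinearAlgebra.Determinant
import Mathlib.RingTheory.Polynomial.Cyclotomic.Roots
import Mathlib.RingTheory.RootsOfUnity.Complex

/-!
# Traces of idempotents attached to representations
-/

set_option autoImplicit false

open Module

namespace CfsgLib.BrauerTuan

universe u v

variable {V : Type v} [AddCommGroup V] [Module ℂ V] [FiniteDimensional ℂ V]

theorem exists_nat_trace {E : Module.End ℂ V} (h : IsIdempotentElem E) :
    LinearMap.trace ℂ V E = (finrank ℂ (LinearMap.range E) : ℂ) :=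
  ((LinearMap.isProj_range_iff_isIdempotentElem E).2 h).trace

theorem eq_zero_of_trace_eq_zero {E : Module.End ℂ V} (h : IsIdempotentElem E)
    (h0 : LinearMap.trace ℂ V E = 0) : E = 0 := by
  rw [exists_nat_trace h, Nat.cast_eq_zero, Submodule.finrank_eq_zero,
    LinearMap.range_eq_bot] at h0
  exact h0

variable {G : Type u} [Group G] (ρ : Representation ℂ G V)

/-- The projection to the eigenvalue `-1`. -/
noncomputable def negProj (g : G) : Module.End ℂ V := (2 : ℂ)⁻¹ • (1 - ρ g)

theorem negProj_idem {g : G} (hg : g * g = 1) : IsIdempotentElem (negProj ρ g) := by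
  show negProj ρ g * negProj ρ g = negProj ρ g
  have h : ρ g * ρ g = 1 := by rw [← map_mul, hg, map_one]
  simp only [negProj, smul_mul_smul_comm, sub_mul, one_mul, mul_sub, mul_one, h]
  match_scalars <;> ring

theorem trace_negProj (g : G) :
    LinearMap.trace ℂ V (negProj ρ g) = ((finrank ℂ V : ℂ) - ρ.character g) / 2 := by
  rw [negProj, map_smul, map_sub, Module.End.one_eq_id, LinearMap.trace_id, smul_eq_mul]
  rw [div_eq_inv_mul]
  rfl

theorem commute_negProj {a g : G} (h : Commute a g) : Commute (ρ a) (negProj ρ g) :=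
  ((Commute.one_right _).sub_right (h.map ρ)).smul_right _

theorem rho_mul_negProj {g : G} (hg : g * g = 1) : ρ g * negProj ρ g = -negProj ρ g := by
  have h : ρ g * ρ g = 1 := by rw [← map_mul, hg, map_one]
  simp only [negProj, mul_smul_comm, mul_sub, mul_one, h]
  rw [← smul_neg, neg_sub]

theorem conj_negProj (a g : G) :
    ρ a * negProj ρ g * ρ a⁻¹ = negProj ρ (a * g * a⁻¹) := by
  simp only [negProj, mul_smul_comm, smul_mul_assoc, mul_sub, sub_mul, mul_one, map_mul]
  congr 1
  rw [← map_mul ρ a a⁻¹, mul_inv_cancel, map_one]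

/-- In a group without nontrivial linear characters the multiplicity of `-1` is even. -/
theorem even_finrank_negProj [Finite G] (hdet : ∀ g, LinearMap.det (ρ g) = 1) {g : G}
    (hg : g * g = 1) : Even (finrank ℂ (LinearMap.range (negProj ρ g))) := by
  classical
  obtain ⟨b, μ, hμ, hb⟩ := CfsgLib.Char.exists_eigenbasis_of_pow_eq_one (ρ g) two_ne_zero
    (by rw [sq, ← map_mul, hg, map_one])
  have h1 : LinearMap.det (ρ g) = ∏ i, μ i := by
    rw [← LinearMap.det_toMatrix b]
    have h2 : LinearMap.toMatrix b b (ρ g) = Matrix.diagonal μ := by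
      ext i j
      rw [LinearMap.toMatrix_apply, hb, map_smul, Finsupp.smul_apply, b.repr_self,
        Finsupp.single_apply, Matrix.diagonal_apply, smul_eq_mul]
      by_cases h : j = i
      · subst h; simp
      · simp [h, Ne.symm h]
    rw [h2, Matrix.det_diagonal]
  have h3 : LinearMap.trace ℂ V (negProj ρ g) =
      ((Finset.univ.filter fun i => μ i = -1).card : ℂ) := by
    rw [CfsgLib.Char.trace_eq_sum_of_eigenbasis (negProj ρ g) b (fun i => (2 : ℂ)⁻¹ * (1 - μ i))
      (fun i => by
        rw [negProj, LinearMap.smul_apply, LinearMap.sub_apply, Module.End.one_apply, hb, mul_smul,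
          sub_smul, one_smul]), Finset.card_filter, Nat.cast_sum]
    refine Finset.sum_congr rfl fun i _ => ?_
    rcases sq_eq_one_iff.1 (hμ i) with e | e <;> norm_num [e]
  have h4 : ∏ i, μ i = (-1) ^ (Finset.univ.filter fun i => μ i = -1).card := by
    rw [← Finset.prod_filter_mul_prod_filter_not Finset.univ (fun i => μ i = -1),
      Finset.prod_congr rfl (fun i hi => (Finset.mem_filter.1 hi).2), Finset.prod_const,
      Finset.prod_eq_one (fun i hi => (sq_eq_one_iff.1 (hμ i)).resolve_right
        (Finset.mem_filter.1 hi).2), mul_one]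
  rw [exists_nat_trace (negProj_idem ρ hg), Nat.cast_inj] at h3
  rw [h3]
  exact neg_one_pow_eq_one_iff_even (by norm_num : (-1 : ℂ) ≠ 1) |>.1 (by rw [← h4, ← h1, hdet])

/-- An idempotent with rational traces against a cyclic group of order `2 ^ (c + 1)` whose
involution acts as minus one is zero or has rank at least `2 ^ c`. -/
theorem zero_or_two_pow_le {y : G} {c : ℕ} (hy : y ^ 2 ^ (c + 1) = 1)
    {P : Module.End ℂ V} (hP : IsIdempotentElem P) (hcomm : Commute (ρ y) P)
    (hneg : ρ (y ^ 2 ^ c) * P = -P)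
    (hrat : ∀ a : ℕ, ∃ r : ℚ, LinearMap.trace ℂ V (ρ (y ^ a) * P) = (r : ℂ)) :
    P = 0 ∨ 2 ^ c ≤ finrank ℂ (LinearMap.range P) := by
  classical
  set e := 2 ^ (c + 1) with he
  have he0 : 0 < e := pow_pos two_pos _
  have heC : (e : ℂ) ≠ 0 := Nat.cast_ne_zero.2 he0.ne'
  obtain ⟨ω, hω⟩ : ∃ ω : ℂ, IsPrimitiveRoot ω e := ⟨_, Complex.isPrimitiveRoot_exp e he0.ne'⟩
  let S : ℕ → Module.End ℂ V := fun j => ∑ a ∈ Finset.range e, (ω ^ j) ^ a • ρ (y ^ a)
  let E : ℕ → Module.End ℂ V := fun j => (e : ℂ)⁻¹ • S j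
  have hshift : ∀ j, ((ω ^ j) • ρ y) * S j = S j := by
    intro j
    have e1 := Finset.sum_range_succ' (fun i => (ω ^ j) ^ i • ρ (y ^ i)) e
    rw [Finset.sum_range_succ, hy, ← pow_mul, mul_comm, pow_mul, hω.pow_eq_one, one_pow,
      pow_zero, pow_zero] at e1
    refine Eq.trans ?_ (add_right_cancel e1).symm
    simp only [S, Finset.mul_sum, smul_mul_smul_comm, ← map_mul, ← pow_succ']
  have hpow : ∀ i j, ((ω ^ j) ^ i • ρ (y ^ i)) * S j = S j := by
    intro i j
    induction i with
    | zero => rw [pow_zero, pow_zero, map_one, one_smul, one_mul]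
    | succ i ih => rw [pow_succ, pow_succ, map_mul, ← smul_mul_smul_comm, mul_assoc, hshift, ih]
  have hSS : ∀ j, S j * S j = (e : ℂ) • S j := by
    intro j
    conv_lhs => arg 1; simp only [S]
    rw [Finset.sum_mul, Finset.sum_congr rfl fun i _ => hpow i j, Finset.sum_const,
      Finset.card_range, Nat.cast_smul_eq_nsmul]
  have hEc : ∀ j, Commute (E j) P := fun j => by
    exact (Commute.sum_left _ _ _ fun a _ => by
      rw [map_pow]; exact (hcomm.pow_left a).smul_left _).smul_left _
  have hidem : ∀ j, IsIdempotentElem (E j * P) := fun j => by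
    refine IsIdempotentElem.mul_of_commute (hEc j) ?_ hP
    show E j * E j = E j
    simp only [E, smul_mul_smul_comm, hSS, smul_smul, mul_assoc, inv_mul_cancel₀ heC, mul_one]
  have hzero : ∀ j, Even j → E j * P = 0 := by
    intro j hj
    have h1 : ρ (y ^ 2 ^ c) * E j = E j := by
      have h2 := hpow (2 ^ c) j
      have h3 : (ω ^ j) ^ 2 ^ c = 1 := by
        obtain ⟨k, rfl⟩ := hj
        rw [← pow_mul, show (k + k) * 2 ^ c = e * k by rw [he, pow_succ]; ring, pow_mul,
          hω.pow_eq_one, one_pow]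
      rw [h3, one_smul] at h2
      simp only [E, mul_smul_comm, h2]
    have h4 : E j * P = -(E j * P) := by
      conv_lhs => rw [← h1, mul_assoc, (hEc j).eq, ← mul_assoc, hneg, neg_mul, ← (hEc j).eq]
    have h5 : (2 : ℂ) • (E j * P) = 0 := by rw [two_smul]; nth_rewrite 2 [h4]; exact add_neg_cancel _
    exact (smul_eq_zero.1 h5).resolve_left two_ne_zero
  choose r hr using hrat
  let Q : Polynomial ℚ := ∑ a ∈ Finset.range e, Polynomial.monomial a (r a)
  have htr : ∀ j, (e : ℂ) * LinearMap.trace ℂ V (E j * P) = Polynomial.aeval (ω ^ j) Q := by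
    intro j
    simp only [E, Q, smul_mul_assoc, map_smul, smul_eq_mul, map_sum]
    rw [← mul_assoc, mul_inv_cancel₀ heC, one_mul]
    simp only [S, Finset.sum_mul, map_sum, smul_mul_assoc, map_smul, smul_eq_mul, hr,
      Polynomial.aeval_monomial]
    refine Finset.sum_congr rfl fun a _ => ?_
    rw [mul_comm]
    simp
  have hsum : ∑ j ∈ Finset.range e, LinearMap.trace ℂ V (E j * P) = LinearMap.trace ℂ V P := by
    have h1 : ∑ j ∈ Finset.range e, E j = 1 := by
      simp only [E, S, ← Finset.smul_sum]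
      rw [Finset.sum_comm, Finset.sum_eq_single 0]
      · simp only [pow_zero, one_smul, map_one, Finset.sum_const, Finset.card_range]
        rw [← Nat.cast_smul_eq_nsmul ℂ, smul_smul, inv_mul_cancel₀ heC, one_smul]
      · intro i hi hi0
        rw [← Finset.sum_smul]
        have hne : ω ^ i ≠ 1 := fun e1 => hi0
          (Nat.eq_zero_of_dvd_of_lt (hω.pow_eq_one_iff_dvd i |>.1 e1) (Finset.mem_range.1 hi))
        have hgeo : ∑ j ∈ Finset.range e, (ω ^ j) ^ i = 0 := by
          simp only [← pow_mul, mul_comm _ i]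
          simp only [pow_mul]
          rw [geom_sum_eq hne, ← pow_mul, mul_comm, pow_mul, hω.pow_eq_one, one_pow, sub_self,
            zero_div]
        rw [hgeo, zero_smul]
      · intro h0
        exact absurd (Finset.mem_range.2 he0) h0
    rw [← map_sum, ← Finset.sum_mul, h1, one_mul]
  rcases em (∃ j, Odd j ∧ LinearMap.trace ℂ V (E j * P) = 0) with ⟨j₀, hj₀, h0⟩ | hne
  · left
    refine eq_zero_of_trace_eq_zero hP ?_
    rw [← hsum]
    refine Finset.sum_eq_zero fun j _ => ?_
    rcases Nat.even_or_odd j with hj | hj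
    · rw [hzero j hj, map_zero]
    · have hprim : ∀ i, Odd i → IsPrimitiveRoot (ω ^ i) e := fun i hi =>
        hω.pow_of_coprime i (Nat.Coprime.pow_right _ (Nat.coprime_two_right.2 hi))
      have hQ : Polynomial.aeval (ω ^ j₀) Q = 0 := by rw [← htr, h0, mul_zero]
      have hdvd := minpoly.dvd ℚ (ω ^ j₀) hQ
      rw [← Polynomial.cyclotomic_eq_minpoly_rat (hprim j₀ hj₀) he0] at hdvd
      obtain ⟨R, hR⟩ := hdvd
      have hQj : Polynomial.aeval (ω ^ j) Q = 0 := by
        rw [hR, map_mul, Polynomial.cyclotomic_eq_minpoly_rat (hprim j hj) he0, minpoly.aeval,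
          zero_mul]
      rw [← htr] at hQj
      exact (mul_eq_zero.1 hQj).resolve_left heC
  · right
    push Not at hne
    rw [exists_nat_trace hP] at hsum
    simp only [exists_nat_trace (hidem _)] at hsum hne
    rw [← Nat.cast_sum, Nat.cast_inj] at hsum
    rw [← hsum]
    refine le_trans ?_ (Finset.sum_le_sum_of_subset
      (show (Finset.range (2 ^ c)).image (fun i => 2 * i + 1) ⊆ Finset.range e by
        intro j hj
        obtain ⟨i, hi, rfl⟩ := Finset.mem_image.1 hj
        rw [Finset.mem_range] at hi ⊢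
        rw [he, pow_succ]
        omega))
    rw [Finset.sum_image fun a _ b _ h => by simpa using h]
    refine le_trans (le_of_eq ?_) (Finset.sum_le_sum (f := fun _ => (1 : ℕ)) fun i _ =>
      Nat.one_le_iff_ne_zero.2 fun h => hne (2 * i + 1) ⟨i, rfl⟩ (by rw [h, Nat.cast_zero]))
    simp

end CfsgLib.BrauerTuan
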