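import Cfsg.Agent.Lib.BrauerTuan.Two
import Cfsg.Agent.Lib.Char.GaloisConj

/-!
# The exceptional characters are rational on the regular elements
-/

set_option autoImplicit false

namespace CfsgLib.BrauerTuan

open Cfsg CfsgLib.DefectOne CfsgLib.BrauerRey
open scoped Classical

universe u

variable {G : Type u} [Group G] [Finite G] {p q b g₀ : ℕ} [Fact p.Prime] {z y : G} {e t n : ℕ}
  {X Y : Finset (IrrCharacter G)} {σ : IrrCharacter G → ℤ} {δ : ℤ} {f₀ : ℕ}

/-- A rational character value is an integer. -/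
theorem exists_int_of_rat {χ : G → ℂ} (hχ : IsCharacter G χ) {g : G}
    (h : ∃ r : ℚ, χ g = (r : ℂ)) : ∃ k : ℤ, χ g = (k : ℂ) := by
  obtain ⟨r, hr⟩ := h
  obtain ⟨N, ρ, rfl⟩ := hχ
  obtain ⟨m, hm⟩ := CfsgLib.Char.exists_int_of_isIntegral_ratCast (q := r)
    (hr ▸ CfsgLib.Char.isIntegral_character ρ g)
  exact ⟨m, by rw [hr, ← hm, Rat.cast_intCast]⟩

/-- Values at involutions are integers. -/
theorem exists_int_involution {χ : G → ℂ} (hχ : IsCharacter G χ) {v : G} (hv : v ^ 2 = 1) :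
    ∃ k : ℤ, χ v = (k : ℂ) := by
  refine exists_int_of_rat hχ ((CfsgLib.CharPower.exists_rat_iff hχ v two_pos hv).2 fun m hm => ?_)
  obtain ⟨k, rfl⟩ := (Nat.coprime_two_right.1 hm)
  rw [pow_add, pow_mul, hv, one_pow, one_mul, pow_one]

namespace Tuan

variable (T : Tuan p q b g₀ z y e t n X Y σ δ f₀)

include T

theorem theta_rat (hq2 : q = 2) (hodd : Odd f₀) {θ : IrrCharacter G} (hθ : θ ∈ Y) {g : G}
    (hg : ¬ p ∣ orderOf g) : ∃ k : ℤ, (θ : G → ℂ) g = (k : ℂ) := by
  have hchar := CfsgLib.Char.IsIrrCharacter.isCharacter θ.2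
  refine exists_int_of_rat hchar ((CfsgLib.CharPower.exists_rat_iff hchar g
    (Nat.card_pos (α := G)) (pow_card_eq_one')).2 fun m hm => ?_)
  set θ' := CfsgLib.CharGalois.powIrr hm θ
  have hd : deg θ' = f₀ := Nat.cast_injective (R := ℂ) (by
    rw [deg_cast, ← T.blk.deg_Y θ hθ, deg_cast]
    show (θ : G → ℂ) (1 ^ m) = _
    rw [one_pow])
  have hθ' : θ' ∈ Y := by
    rcases Finset.mem_union.1 (T.blk.mem θ' (by
      rw [hd, ← T.blk.deg_Y θ hθ]
      exact T.blk.not_dvd θ (Finset.mem_union_right _ hθ))) with h | h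
    · exfalso
      have hne : θ' ≠ CfsgLib.Char.principalIrr := fun e1 => by
        have := T.one_lt
        rw [e1, deg_principal] at hd
        omega
      have h2 := T.deg_X θ' h hne
      rw [hq2, hd] at h2
      exact (Nat.not_even_iff_odd.2 hodd) (even_iff_two_dvd.2 h2)
    · exact h
  exact T.blk.eq_Y θ' hθ' θ hθ g hg

end Tuan

end CfsgLib.BrauerTuan
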